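import Groth.Agent.CurveFin.Seq
import Groth.Agent.CurveH12.OpenH2
import Groth.Agent.ConstGenLib.Normal
import Groth.Agent.EtTraceLib.ASProper
import Groth.Agent.EtClosedPts.Generic
import Groth.Agent.S0203
import Groth.Agent.S19463

/-!
# The cohomology of finite constant sheaves on a smooth curve is finite
-/

set_option autoImplicit false
set_option backward.isDefEq.respectTransparency false
set_option backward.isDefEq.respectTransparency.types false
set_option linter.style.haveILetI false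
set_option maxHeartbeats 800000

universe u

open CategoryTheory CategoryTheory.Limits AlgebraicGeometry Opposite CategoryTheory.Abelian

noncomputable section

namespace Groth.Agent.CurveFin

open ConstGenLib

variable {k : Type u} [Field k] [IsAlgClosed k]

theorem finite_torsion_units {R : Type u} [CommRing R] [IsDomain R] (φ : k →+* R) (n : ℕ) (hn : 1 ≤ n)
    (hnk : (n : k) ≠ 0) : Finite (nsmulAddMonoidHom n : Additive Rˣ →+ _).ker := by
  haveI : NeZero n := ⟨by omega⟩
  obtain ⟨e⟩ := CurveH12.nonempty_torsion_units_equiv φ n hn hnk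
  exact Finite.of_equiv _ e.symm.toEquiv

theorem finite_H0_mu {X : Scheme.{u}} [IsIntegral X] (f : X ⟶ Spec (CommRingCat.of k)) (n : ℕ) (hn : 1 ≤ n)
    (hnk : (n : k) ≠ 0) : Finite (EtCoh.H X (EtCoh.mu X n) 0) := by
  haveI := finite_torsion_units (R := Γ(X, ⊤)) (CurveH12.constHom f) n hn hnk
  obtain ⟨a⟩ := CurveH12.nonempty_H0_mu (X := X) (n := n)
    (Groth.Agent.S0108.result X n (CurveH12.isUnit_natCast_gamma f hnk))
  exact Finite.of_equiv _ (a.trans (CurveH12.torsEquiv (CurveH12.H0Gm X) n)).symm.toEquiv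

theorem isTorsion_const_zmod (X : Scheme.{u}) (n : ℕ) (hn : 1 ≤ n) :
    EtCoh.IsTorsion (EtCoh.const X (ZMod n)) := by
  haveI : (constantSheaf X.smallEtaleTopology AddCommGrpCat.{u + 1}).Additive :=
    (EtCore.constAdj X).left_adjoint_additive
  refine EtTraceLib.isTorsion_of_nsmul_id_eq_zero (N := n) (by omega) ?_
  show n • 𝟙 ((constantSheaf X.smallEtaleTopology AddCommGrpCat.{u + 1}).obj _) = 0
  rw [← CategoryTheory.Functor.map_id, ← Functor.map_nsmul]
  have h1 : n • 𝟙 (AddCommGrpCat.of (ULift.{u + 1} (ZMod n))) = 0 :=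
    AddCommGrpCat.hom_ext (AddMonoidHom.ext fun a => ULift.ext _ _ (ZModModule.char_nsmul_eq_zero n a.down))
  rw [h1, Functor.map_zero]

/-- Closed subsets of a curve missing the generic point are finite. -/
theorem finite_compl_open {X : Scheme.{u}} [IsIntegral X] [IsNoetherian X] (hdim : topologicalKrullDim X ≤ 1)
    (U : X.Opens) (hU : (U : Set X).Nonempty) : ((U : Set X)ᶜ).Finite := by
  have hc : IsClosed ((U : Set X)ᶜ) := U.2.isClosed_compl
  haveI : QuasiSober ↥((U : Set X)ᶜ) := hc.isClosedEmbedding_subtypeVal.quasiSober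
  have h : ∀ a : ↥((U : Set X)ᶜ), IsClosed ({a} : Set ↥((U : Set X)ᶜ)) := fun a => by
    rcases EtClosedPts.isClosed_or_maximal hdim a.1 with h | h
    · have : ({a} : Set ↥((U : Set X)ᶜ)) = Subtype.val ⁻¹' {a.1} := by
        ext b; simp [Subtype.ext_iff]
      rw [this]
      exact h.preimage continuous_subtype_val
    · obtain ⟨z, hz⟩ := hU
      exact absurd ((h _ (genericPoint_specializes a.1)) ▸ (genericPoint_specializes z).mem_open U.2 hz) a.2
  exact Set.finite_coe_iff.1 (Set.finite_univ_iff.1 (EtClosedPts.finite_of_closed_points h))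

variable (Y : Scheme.{u}) (f : Y ⟶ Spec (CommRingCat.of k)) [IsSeparated f] [LocallyOfFiniteType f]
  [QuasiCompact f] [IsIntegral Y] [Smooth f]

include f in
/-- Finiteness for `ℤ/p`, `p` invertible. -/
theorem finite_H_C_invertible (hdim : topologicalKrullDim Y = 1) (hN : Pi1.IsNormalScheme Y) (p : ℕ) (hp : 1 ≤ p)
    (hpk : (p : k) ≠ 0) (q : ℕ) : Finite (EtCoh.H Y (EtCoh.const Y (ZMod p)) q) := by
  letI : Y.Over (Spec (CommRingCat.of k)) := ⟨f⟩
  by_cases hq : 2 < q
  · haveI := Groth.Agent.S0203.result k Y f hdim.le _ (isTorsion_const_zmod Y p hp) q hq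
    infer_instance
  obtain ⟨i⟩ := CurveH12.nonempty_mu_iso_const f hp hpk
  rcases Nat.eq_zero_or_pos q with rfl | hq0
  · exact finite_H_of_iso i.symm 0 (finite_H0_mu f p hp hpk)
  haveI : NeZero p := ⟨by omega⟩
  by_cases hP : IsProper f
  · haveI : IsProper (Y ↘ Spec (CommRingCat.of k)) := hP
    haveI : Smooth (Y ↘ Spec (CommRingCat.of k)) := ‹Smooth f›
    obtain ⟨⟨a⟩, ⟨b⟩⟩ := CurveH12.nonempty_H_const Y hdim p hp hpk
    obtain rfl | rfl : q = 1 ∨ q = 2 := by omega
    exacts [Finite.of_equiv _ a.symm.toEquiv, Finite.of_equiv _ b.symm.toEquiv]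
  haveI : IsSeparated (Y ↘ Spec (CommRingCat.of k)) := ‹IsSeparated f›
  haveI : LocallyOfFiniteType (Y ↘ Spec (CommRingCat.of k)) := ‹LocallyOfFiniteType f›
  haveI : QuasiCompact (Y ↘ Spec (CommRingCat.of k)) := ‹QuasiCompact f›
  haveI : Smooth (Y ↘ Spec (CommRingCat.of k)) := ‹Smooth f›
  obtain ⟨P, oP, j, hj, hjf, hPint, hPsm, hPdim, n, ι, hι, hιf⟩ := Groth.Agent.S19463.result k Y hdim
  letI := oP
  haveI := hj; haveI := hPint; haveI := hPsm; haveI := hι
  haveI : IsProper (P ↘ Spec (CommRingCat.of k)) := hιf ▸ inferInstance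
  haveI : CompactSpace P := QuasiCompact.compactSpace_of_compactSpace (P ↘ Spec (CommRingCat.of k))
  haveI : IsLocallyNoetherian P := LocallyOfFiniteType.isLocallyNoetherian (P ↘ Spec (CommRingCat.of k))
  haveI : IsNoetherian P := {}
  let U : P.Opens := j.opensRange
  have hUne : (U : Set P).Nonempty := ⟨_, ⟨genericPoint Y, rfl⟩⟩
  have hUc := finite_compl_open hPdim.le U hUne
  have hr : 1 ≤ Nat.card ↥((U : Set P)ᶜ) := by
    haveI := hUc.to_subtype
    refine Nat.pos_of_ne_zero fun h0 => hP ?_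
    have hs : Function.Surjective j := fun x => by
      by_contra hx
      have : 0 < Nat.card ↥((U : Set P)ᶜ) := Nat.card_pos_iff.2 ⟨⟨⟨x, hx⟩⟩, inferInstance⟩
      omega
    haveI : Surjective j := ⟨hs⟩
    haveI : IsIso j := (isIso_iff_isOpenImmersion_and_surjective j).2 ⟨inferInstance, inferInstance⟩
    change IsProper (Y ↘ Spec (CommRingCat.of k))
    rw [← hjf]
    infer_instance
  obtain ⟨⟨a0⟩, hge⟩ := CurveH12.H0_and_Hge2_mu_open P hPdim U _ hr hUc rfl p hp hpk
  obtain ⟨a1⟩ := CurveH12.nonempty_H1_mu_open P hPdim U _ hr hUc rfl p hp hpk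
  obtain ⟨iU⟩ := CurveH12.nonempty_mu_iso_const (U.ι ≫ (P ↘ Spec (CommRingCat.of k))) hp hpk
  let g : U.toScheme ⟶ Y := j.isoOpensRange.inv
  obtain ⟨t⟩ := nonempty_H_C_equiv g (AddCommGrpCat.of (ULift.{u + 1} (ZMod p)))
    (connAlong_openImmersion hN g ⟨_, ⟨j.isoOpensRange.hom (genericPoint Y), rfl⟩⟩) q
  haveI : Finite (EtCoh.H U.toScheme (ConstGenLib.C (X := U.toScheme) (AddCommGrpCat.of (ULift.{u + 1} (ZMod p)))) q) := by
    refine finite_H_of_iso iU.symm q ?_
    obtain rfl | rfl : q = 1 ∨ q = 2 := by omega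
    · exact Finite.of_equiv _ a1.symm.toEquiv
    · haveI := hge 2 le_rfl
      infer_instance
  exact Finite.of_equiv _ t.symm.toEquiv

/-- The admissible torsion: anything on a proper curve, orders invertible in `k` in general. -/
def GoodGrp {Y : Scheme.{u}} (f : Y ⟶ Spec (CommRingCat.of k)) (M : Type*) [AddCommGroup M] : Prop :=
  IsProper f ∨ ∀ m : M, ∃ n : ℕ, (n : k) ≠ 0 ∧ n • m = 0

include f in
theorem finite_H_C_prime (hdim : topologicalKrullDim Y = 1) (hN : Pi1.IsNormalScheme Y) (p : ℕ) (hp : p.Prime)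
    (h : IsProper f ∨ (p : k) ≠ 0) (q : ℕ) : Finite (EtCoh.H Y (EtCoh.const Y (ZMod p)) q) := by
  by_cases hpk : (p : k) = 0
  · haveI : IsProper f := h.resolve_right (not_not.2 hpk)
    haveI : Fact p.Prime := ⟨hp⟩
    haveI : CharP k p := (CharP.charP_iff_prime_eq_zero hp).2 hpk
    exact EtTraceLib.ASProper.finite_H_zmod p k f q
  · exact finite_H_C_invertible Y f hdim hN p hp.pos hpk q

include f in
theorem finite_H_C (hdim : topologicalKrullDim Y = 1) (hN : Pi1.IsNormalScheme Y) (q : ℕ) :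
    ∀ (n : ℕ) (M : AddCommGrpCat.{u + 1}) [Finite M], Nat.card M = n → GoodGrp f M →
      Finite (EtCoh.H Y (C (X := Y) M) q) := by
  intro n
  induction n using Nat.strong_induction_on with
  | _ n ih =>
    intro M _ hn hM
    rcases subsingleton_or_nontrivial M with hs | hs
    · refine finite_H_of_isZero ?_ q
      haveI : (constantSheaf Y.smallEtaleTopology AddCommGrpCat.{u + 1}).Additive :=
        (EtCore.constAdj Y).left_adjoint_additive
      exact Functor.map_isZero _ (AddCommGrpCat.isZero_iff_subsingleton.2 hs)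
    have h1 : 1 < Nat.card M := Finite.one_lt_card
    obtain ⟨p, hp, hpd⟩ := Nat.exists_prime_and_dvd h1.ne'
    haveI : Fact p.Prime := ⟨hp⟩
    obtain ⟨x, hx⟩ := exists_prime_addOrderOf_dvd_card' p hpd
    let a : ZMod p →+ M := ZMod.lift p ⟨zmultiplesHom M x, by simp [← hx, addOrderOf_nsmul_eq_zero]⟩
    have ha : Function.Injective a := by
      refine (ZMod.lift_injective _).2 fun m hm => ?_
      rw [zmultiplesHom_apply] at hm
      exact (ZMod.intCast_zmod_eq_zero_iff_dvd _ _).2 (hx ▸ addOrderOf_dvd_iff_zsmul_eq_zero.2 hm)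
    let i : AddCommGrpCat.of (ULift.{u + 1} (ZMod p)) ⟶ M :=
      AddCommGrpCat.ofHom (a.comp AddEquiv.ulift.toAddMonoidHom)
    haveI : Mono i := (AddCommGrpCat.mono_iff_injective i).2 (ha.comp AddEquiv.ulift.injective)
    let Q := AddCommGrpCat.of (↥M ⧸ a.range)
    let π : M ⟶ Q := AddCommGrpCat.ofHom (QuotientAddGroup.mk' a.range)
    haveI : Epi π := (AddCommGrpCat.epi_iff_surjective π).2 (QuotientAddGroup.mk'_surjective _)
    let S := ShortComplex.mk i π (AddCommGrpCat.hom_ext (AddMonoidHom.ext fun z =>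
      (QuotientAddGroup.eq_zero_iff _).2 ⟨z.down, rfl⟩))
    have hS : S.ShortExact := ⟨(ShortComplex.ab_exact_iff S).2 fun m hm => by
      obtain ⟨z, hz⟩ := (QuotientAddGroup.eq_zero_iff m).1 hm
      exact ⟨⟨z⟩, hz⟩⟩
    haveI : (constantSheaf Y.smallEtaleTopology AddCommGrpCat.{u + 1}).Additive :=
      (EtCore.constAdj Y).left_adjoint_additive
    haveI : PreservesFiniteLimits (constantSheaf Y.smallEtaleTopology AddCommGrpCat.{u + 1}) := by
      unfold constantSheaf; infer_instance
    haveI : PreservesFiniteColimits (constantSheaf Y.smallEtaleTopology AddCommGrpCat.{u + 1}) := by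
      unfold constantSheaf; infer_instance
    have hS' := hS.map_of_exact (constantSheaf Y.smallEtaleTopology AddCommGrpCat.{u + 1})
    have hp' : IsProper f ∨ (p : k) ≠ 0 := hM.imp id fun h => by
      obtain ⟨m, hm, hmx⟩ := h x
      obtain ⟨c, rfl⟩ := hx ▸ addOrderOf_dvd_of_nsmul_eq_zero hmx
      exact fun h0 => hm (by rw [Nat.cast_mul, h0, zero_mul])
    haveI : Finite (EtCoh.H Y (S.map (constantSheaf Y.smallEtaleTopology AddCommGrpCat.{u + 1})).X₁ q) :=
      finite_H_C_prime Y f hdim hN p hp hp' q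
    haveI : Finite (↥M ⧸ a.range) := Finite.of_surjective _ (QuotientAddGroup.mk'_surjective a.range)
    haveI : Finite (EtCoh.H Y (S.map (constantSheaf Y.smallEtaleTopology AddCommGrpCat.{u + 1})).X₃ q) := by
      refine ih (Nat.card (↥M ⧸ a.range)) ?_ Q rfl (hM.imp id fun h z => ?_)
      · rw [← hn, AddSubgroup.card_eq_card_quotient_mul_card_addSubgroup a.range]
        refine lt_mul_of_one_lt_right Nat.card_pos ?_
        rw [← Nat.card_congr (AddMonoidHom.ofInjective ha).toEquiv, Nat.card_zmod]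
        exact hp.one_lt
      · obtain ⟨m, rfl⟩ := QuotientAddGroup.mk'_surjective a.range z
        obtain ⟨c, hc, hcm⟩ := h m
        exact ⟨c, hc, by rw [← map_nsmul, hcm, map_zero]⟩
    exact finite_H_mid hS' q

end Groth.Agent.CurveFin
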