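import Groth.Agent.CurveFin.Point
import Groth.Agent.FLCLib.Sub
import Groth.Agent.S0137

/-!
# Finiteness of the cohomology of constructible sheaves on curves
-/

set_option autoImplicit false
set_option backward.isDefEq.respectTransparency false
set_option backward.isDefEq.respectTransparency.types false
set_option linter.style.haveILetI false
set_option maxHeartbeats 1000000

universe u

open CategoryTheory CategoryTheory.Limits AlgebraicGeometry Opposite

noncomputable section

namespace Groth.Agent.CurveFin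

open EtPtsLib

variable {X : Scheme.{u}}

theorem mem_supp_iff_geom {F : EtCoh.Ab X} {Ω : Type u} [Field Ω] [IsSepClosed Ω]
    (ξ : Spec (CommRingCat.of Ω) ⟶ X) (h : ξ default ∉ EtPBC.supp F) : IsZero ((EtCoh.stalk ξ).obj F) := by
  by_contra hne
  exact h ⟨Ω, inferInstance, inferInstance, ξ, FLCLib.range_geomPt ξ, hne⟩

/-- A finitely supported sheaf with finite stalks has finitely many global sections. -/
theorem finite_H0_of_finite_supp {F : EtCoh.Ab X} (hF : FLCLib.GenConst F) (hs : (EtPBC.supp F).Finite) :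
    Finite (EtCoh.H X F 0) := by
  classical
  haveI := hs.to_subtype
  let Φ : EtCoh.sect F (EtCoh.top X) → ∀ x : EtPBC.supp F, (EtCoh.stalk (geomPt x.1)).obj F :=
    fun s x => germ (geomPt x.1) F (topLift _) s
  haveI : ∀ x : EtPBC.supp F, Finite ((EtCoh.stalk (geomPt x.1)).obj F) :=
    fun x => FLCLib.finite_stalk_of_genConst hF _
  have hinj : Function.Injective Φ := fun s t hst => sect_ext F _ s t fun Ω _ _ ξ l => by
    by_cases hx : ξ default ∈ EtPBC.supp F
    · refine (germ_eq_iff_mem_agree ξ F.obj l s t).2 ?_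
      have h := (germ_eq_iff_mem_agree _ F.obj (topLift (geomPt (ξ default))) s t).1 (congrFun hst ⟨_, hx⟩)
      have e1 : liftHom (geomPt (ξ default)) (topLift (geomPt (ξ default))) default = ξ default :=
        geomPt_default (ξ default)
      have e2 : liftHom ξ l default = ξ default := by
        conv_rhs => rw [← liftHom_comp ξ l]
        rfl
      rw [e1] at h
      rw [e2]
      exact h
    · haveI := AddCommGrpCat.subsingleton_of_isZero (mem_supp_iff_geom ξ hx)
      exact Subsingleton.elim _ _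
  haveI : Finite (EtCoh.sect F (EtCoh.top X)) := Finite.of_injective Φ hinj
  exact Finite.of_equiv _ (Sheaf.H.equiv₀ F (EtCore.topIsTerminal X)).symm.toEquiv

theorem exists_maximal_specializes (hdim : topologicalKrullDim X ≤ 1) (x : X) :
    ∃ y : X, y ⤳ x ∧ ∀ w : X, w ⤳ y → w = y := by
  by_cases hx : ∀ w : X, w ⤳ x → w = x
  · exact ⟨x, specializes_rfl, hx⟩
  push Not at hx
  obtain ⟨w, hw, hne⟩ := hx
  refine ⟨w, hw, (EtClosedPts.isClosed_or_maximal hdim w).resolve_left fun hc => hne ?_⟩
  exact (Set.mem_singleton_iff.1 (hw.mem_closed hc rfl)).symm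

theorem finite_supp_of_closed {k : Type u} [Field k] (f : X ⟶ Spec (CommRingCat.of k)) [LocallyOfFiniteType f]
    [QuasiCompact f] (hdim : topologicalKrullDim X ≤ 1) {F : EtCoh.Ab X} (hF : FLCLib.GenConst F)
    (hs : ∀ x ∈ EtPBC.supp F, IsClosed ({x} : Set X)) : (EtPBC.supp F).Finite := by
  haveI : IsLocallyNoetherian X := LocallyOfFiniteType.isLocallyNoetherian f
  haveI : CompactSpace X := (quasiCompact_iff_compactSpace f).1 inferInstance
  haveI : IsNoetherian X := { }
  obtain ⟨T, hT⟩ := EtClosedPts.exists_finset_maximal (X := X) f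
  refine Set.Finite.subset (T.finite_toSet.biUnion fun y hy => (?_ : (EtPBC.supp F ∩ closure {y}).Finite))
    fun x hx => ?_
  · by_cases hc : IsClosed ({y} : Set X)
    · exact (Set.finite_singleton y).subset (Set.inter_subset_right.trans hc.closure_eq.le)
    obtain ⟨U, M, θ, hyU, -, hθ⟩ := hF y
    haveI : AlgebraicGeometry.Etale U.hom := U.prop
    have hM : Subsingleton M := by
      obtain ⟨u, hu⟩ := hyU
      obtain ⟨l, -⟩ := Scheme.pointSmallEtaleFiberObjToPreimage_surjective (geomPt y) (geomPt_default y) U ⟨u, hu⟩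
      haveI := AddCommGrpCat.subsingleton_of_isZero
        (mem_supp_iff_geom (F := F) (geomPt y) (by rw [geomPt_default]; exact fun h => hc (hs y h)))
      exact (Equiv.ofBijective _ (hθ _ (geomPt y) l ((geomPt_default y).symm ▸ specializes_rfl))).subsingleton
    let C : Set X := closure {y} \ Set.range U.hom
    have hC : IsClosed C := isClosed_closure.sdiff U.hom.isOpenMap.isOpen_range
    have hCfin : C.Finite := by
      haveI : QuasiSober ↥C := hC.isClosedEmbedding_subtypeVal.quasiSober
      have h : ∀ a : ↥C, IsClosed ({a} : Set ↥C) := fun a => by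
        have : ({a} : Set ↥C) = Subtype.val ⁻¹' {a.1} := by ext b; simp [Subtype.ext_iff]
        rw [this]
        refine ((EtClosedPts.isClosed_or_maximal hdim a.1).resolve_right fun hm => ?_).preimage continuous_subtype_val
        exact a.2.2 (hm y (specializes_iff_mem_closure.2 a.2.1) ▸ hyU)
      exact Set.finite_coe_iff.1 (Set.finite_univ_iff.1 (EtClosedPts.finite_of_closed_points h))
    refine hCfin.subset fun x ⟨hx, hxy⟩ => ⟨hxy, fun ⟨u, hu⟩ => ?_⟩
    obtain ⟨Ω, _, _, ξ, hξ, hne⟩ := hx
    have hξx : ξ default = x := Set.mem_singleton_iff.1 (hξ ▸ Set.mem_range_self default)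
    obtain ⟨l, -⟩ := Scheme.pointSmallEtaleFiberObjToPreimage_surjective ξ hξx U ⟨u, hu⟩
    exact hne (AddCommGrpCat.isZero_iff_subsingleton.2
      (Equiv.ofBijective _ (hθ Ω ξ l (hξx.symm ▸ specializes_iff_mem_closure.2 hxy))).symm.subsingleton)
  · obtain ⟨y, hyx, hy⟩ := exists_maximal_specializes hdim x
    exact Set.mem_biUnion ((hT y).2 hy) ⟨hx, specializes_iff_mem_closure.1 hyx⟩

theorem genConst_C (M : AddCommGrpCat.{u + 1}) [Finite M] : FLCLib.GenConst (ConstGenLib.C (X := X) M) := fun x =>
  ⟨EtCoh.top X, M, cst M _, ⟨x, rfl⟩, inferInstance, fun _ _ _ ζ l _ => germ_cst_bijective ζ M l⟩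

variable {k : Type u} [Field k] [IsAlgClosed k]

theorem finite_H_of_supp_closed (f : X ⟶ Spec (CommRingCat.of k)) [LocallyOfFiniteType f] [QuasiCompact f]
    [QuasiSeparated f] (hdim : topologicalKrullDim X ≤ 1) {F : EtCoh.Ab X} (hF : EtPBC.IsConstructible F)
    (hs : ∀ x ∈ EtPBC.supp F, IsClosed ({x} : Set X)) (q : ℕ) : Finite (EtCoh.H X F q) := by
  haveI : IsLocallyNoetherian X := LocallyOfFiniteType.isLocallyNoetherian f
  haveI : CompactSpace X := (quasiCompact_iff_compactSpace f).1 inferInstance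
  haveI : IsNoetherian X := { }
  haveI : QuasiSeparatedSpace X := quasiSeparatedSpace_of_quasiSeparated f
  rcases Nat.eq_zero_or_pos q with rfl | hq
  · have hG := (FLCLib.genCard_of_isConstructible hF).genConst
    exact finite_H0_of_finite_supp hG (finite_supp_of_closed f hdim hG hs)
  · haveI := EtClosedPts.subsingleton_H_of_supp_closedPoints F f hs q hq
    infer_instance

theorem stalk_nsmul_eq_zero {F : EtCoh.Ab X} (n : ℕ) (h : n • 𝟙 F = 0) {Ω : Type u} [Field Ω] [IsSepClosed Ω]
    (ξ : Spec (CommRingCat.of Ω) ⟶ X) (s : (EtCoh.stalk ξ).obj F) : n • s = 0 := by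
  obtain ⟨U, l, t, rfl⟩ := (Scheme.pointSmallEtale ξ).toPresheafFiber_jointly_surjective s
  exact (map_nsmul ((Scheme.pointSmallEtale ξ).toPresheafFiber U l F.obj).hom n t).symm.trans
    ((congrArg _ ((FLCLib.killedBy_iff n F).2 h U t)).trans (map_zero _))

/-- Constructible sheaves of admissible torsion on curves have finite cohomology. -/
theorem finite_H (f : X ⟶ Spec (CommRingCat.of k)) [IsSeparated f] [LocallyOfFiniteType f] [QuasiCompact f]
    (hdim : topologicalKrullDim X ≤ 1) : ∀ (q : ℕ) (F : EtCoh.Ab X), EtPBC.IsConstructible F → Good f F →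
      Finite (EtCoh.H X F q) := by
  classical
  haveI : IsLocallyNoetherian X := LocallyOfFiniteType.isLocallyNoetherian f
  haveI : CompactSpace X := (quasiCompact_iff_compactSpace f).1 inferInstance
  haveI : IsNoetherian X := { }
  intro q
  induction q using Nat.strong_induction_on with
  | _ q IHq =>
  obtain ⟨T₀, hT₀⟩ := EtClosedPts.exists_finset_maximal (X := X) f
  suffices H : ∀ (T : Finset X), (∀ y ∈ T, (∀ w : X, w ⤳ y → w = y) ∧ ¬ IsClosed ({y} : Set X)) →
      ∀ F : EtCoh.Ab X, EtPBC.IsConstructible F → Good f F →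
      (∀ (Ω : Type u) [Field Ω] [IsSepClosed Ω] (ξ : Spec (CommRingCat.of Ω) ⟶ X),
        ¬ IsClosed ({ξ default} : Set X) → ξ default ∉ T → IsZero ((EtCoh.stalk ξ).obj F)) →
      Finite (EtCoh.H X F q) by
    intro F hF hg
    refine H (T₀.filter fun y => ¬ IsClosed ({y} : Set X))
      (fun y hy => ⟨(hT₀ y).1 (Finset.mem_filter.1 hy).1, (Finset.mem_filter.1 hy).2⟩) F hF hg
      fun Ω _ _ ξ hc hn => absurd (Finset.mem_filter.2 ⟨(hT₀ _).2
        ((EtClosedPts.isClosed_or_maximal hdim (ξ default)).resolve_left hc), hc⟩) hn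
  intro T
  induction T using Finset.induction with
  | empty =>
    intro _ F hF _ h0
    refine finite_H_of_supp_closed f hdim hF (fun x ⟨Ω, _, _, ξ, hξ, hne⟩ => ?_) q
    by_contra hc
    have hξx : ξ default = x := Set.mem_singleton_iff.1 (hξ ▸ Set.mem_range_self default)
    exact hne (h0 Ω ξ (by rwa [hξx]) (Finset.notMem_empty _))
  | @insert y T hy ih =>
    intro hT F hF hg h0
    obtain ⟨hmax, hnc⟩ := hT y (Finset.mem_insert_self _ _)
    obtain ⟨Y, π, hπ, hYint, hsm, M, hM, u, hYdim, hYN, hgood, hinj⟩ := exists_point_map f hdim F hF y hmax hnc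
    haveI := hπ; haveI := hYint; haveI := hsm; haveI := hM
    haveI : IsLocallyNoetherian Y := LocallyOfFiniteType.isLocallyNoetherian π
    have hgM := hgood hg
    have hgY : GoodGrp (π ≫ f) M := hgM.imp (fun h => by haveI := h; infer_instance) id
    have hCc : EtPBC.IsConstructible ((EtCoh.push π).obj (ConstGenLib.C (X := Y) M)) :=
      Groth.Agent.S0137.result π _ (genConst_C M).isConstructible
    obtain ⟨hKc, hQc⟩ := FLCLib.isConstructible_kernel_cokernel u hF hCc
    refine finite_H_of_map u q ?_ ?_ fun n hn => IHq n (by omega) _ hQc ?_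
    · obtain ⟨e⟩ := EtVanish.nonempty_H_push_equiv π (ConstGenLib.C (X := Y) M) q
      haveI := finite_H_C Y (π ≫ f) hYdim hYN q _ M rfl hgY
      exact Finite.of_equiv _ e.symm.toEquiv
    · refine ih (fun z hz => hT z (Finset.mem_insert_of_mem hz)) _ hKc (hg.imp id fun h Ω _ _ ξ s => ?_)
        fun Ω _ _ ξ hc hn => ?_
      · obtain ⟨n, hn, hs⟩ := h Ω ξ ((EtCoh.stalk ξ).map (kernel.ι u) s)
        exact ⟨n, hn, FLCLib.injective_stalk (kernel.ι u) ξ (by rw [map_nsmul, hs, map_zero])⟩
      · refine AddCommGrpCat.isZero_iff_subsingleton.2 ?_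
        by_cases hξ : ξ default = y
        · refine ⟨fun a b => FLCLib.injective_stalk (kernel.ι u) ξ (hinj Ω ξ hξ ?_)⟩
          have e : (EtCoh.stalk ξ).map (kernel.ι u) ≫ (EtCoh.stalk ξ).map u = 0 := by
            rw [← Functor.map_comp, kernel.condition, Functor.map_zero]
          exact (ConcreteCategory.congr_hom e a).trans (ConcreteCategory.congr_hom e b).symm
        · haveI := AddCommGrpCat.subsingleton_of_isZero
            (h0 Ω ξ hc (by rw [Finset.mem_insert, not_or]; exact ⟨hξ, hn⟩))
          exact (FLCLib.injective_stalk (kernel.ι u) ξ).subsingleton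
    · refine hgM.imp id fun h Ω _ _ ξ s => ?_
      haveI := Fintype.ofFinite M
      choose N hN hNm using h
      refine ⟨∏ m : M, N m, by rw [Nat.cast_prod]; exact Finset.prod_ne_zero_iff.2 fun m _ => hN m, ?_⟩
      have h1 : (∏ m : M, N m) • 𝟙 M = 0 := AddCommGrpCat.hom_ext (AddMonoidHom.ext fun m => by
        show (∏ m : M, N m) • m = 0
        obtain ⟨c, hc⟩ := Finset.dvd_prod_of_mem N (Finset.mem_univ m)
        rw [hc, mul_comm, mul_nsmul', hNm, smul_zero])
      haveI : (constantSheaf Y.smallEtaleTopology AddCommGrpCat.{u + 1}).Additive :=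
        (EtCore.constAdj Y).left_adjoint_additive
      haveI : (EtCoh.push π).Additive := (EtCoh.pullPushAdj π).right_adjoint_additive
      have h2 : (∏ m : M, N m) • 𝟙 ((EtCoh.push π).obj (ConstGenLib.C (X := Y) M)) = 0 := by
        rw [← CategoryTheory.Functor.map_id, ← CategoryTheory.Functor.map_id (constantSheaf _ _),
          ← Functor.map_nsmul, ← Functor.map_nsmul, h1, Functor.map_zero, Functor.map_zero]
      haveI : Epi ((EtCoh.stalk ξ).map (cokernel.π u)) :=
        (AddCommGrpCat.epi_iff_surjective _).2 ((epi_iff_ab _).1 inferInstance Ω ξ)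
      obtain ⟨t, rfl⟩ := (AddCommGrpCat.epi_iff_surjective _).1 this s
      rw [← map_nsmul, stalk_nsmul_eq_zero _ h2 ξ t, map_zero]

/-- Torsion invertible in `k` is admissible. -/
theorem good_of_isTorsionInvertibleOn (f : X ⟶ Spec (CommRingCat.of k)) {F : EtCoh.Ab X}
    (h : EtPBC.IsTorsionInvertibleOn (Spec (CommRingCat.of k)) F) : Good f F := by
  refine Or.inr fun Ω _ _ ξ s => ?_
  obtain ⟨U, l, t, rfl⟩ := (Scheme.pointSmallEtale ξ).toPresheafFiber_jointly_surjective s
  obtain ⟨V, g, n, ⟨v, hv⟩, hn, hnt⟩ := h U t (liftHom ξ l default)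
  obtain ⟨y, hy⟩ := exists_fiber_map_eq ξ g l v hv
  refine ⟨n, fun h0 => ?_, ?_⟩
  · have := hn.map (Scheme.ΓSpecIso (CommRingCat.of k)).hom.hom
    rw [map_natCast] at this
    exact this.ne_zero h0
  · rw [← hy]
    show n • germ ξ F ((Scheme.pointSmallEtale ξ).fiber.map g y) t = 0
    rw [← germ_map]
    show n • ((Scheme.pointSmallEtale ξ).toPresheafFiber V y F.obj).hom (F.obj.map g.op t) = 0
    rw [← map_nsmul, hnt, map_zero]

end Groth.Agent.CurveFin
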