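import Groth.Agent.FinIntClosure.Normalization
import Groth.Agent.FinBirLib.Smooth
import Groth.Agent.DimLiftLib.Basic
import Groth.Prelude.Def_Pi1

/-!
# The normalisation of a curve in a finite extension of its function field
-/

set_option autoImplicit false
set_option backward.isDefEq.respectTransparency false
set_option backward.isDefEq.respectTransparency.types false
set_option linter.style.haveILetI false
set_option maxHeartbeats 1000000

universe u

open CategoryTheory CategoryTheory.Limits AlgebraicGeometry Opposite TopologicalSpace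

noncomputable section

namespace Groth.Agent.CurveFin

variable {Z : Scheme.{u}} [IsIntegral Z] {K : Type u} [Field K] (φ : Z.functionField →+* K)
  (g : Spec (CommRingCat.of K) ⟶ Z)
  (hg : g = Spec.map (CommRingCat.ofHom φ) ≫ Z.fromSpecStalk (genericPoint Z))
  (k : Type u) [Field k] (q : Z ⟶ Spec (CommRingCat.of k)) [LocallyOfFiniteType q]
  [QuasiCompact g] [QuasiSeparated g]

theorem surjective_germ_top (z : Spec (CommRingCat.of K)) :
    Function.Surjective ((Spec (CommRingCat.of K)).presheaf.germ ⊤ z trivial) := fun s => by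
  obtain ⟨U, hz, t, rfl⟩ := (Spec (CommRingCat.of K)).presheaf.exists_germ_eq s
  obtain rfl : U = ⊤ := eq_top_iff.2 fun x _ => by
    haveI : Subsingleton (PrimeSpectrum K) := inferInstance
    rwa [Subsingleton.elim (α := PrimeSpectrum K) x z]
  exact ⟨t, rfl⟩

include hg in
/-- The generic point of the normalisation is embedded: the stalk map is surjective. -/
theorem surjective_stalkMap_toNormalization (hφ : φ.Finite) (z : Spec (CommRingCat.of K)) :
    Function.Surjective (g.toNormalization.stalkMap z) := by
  obtain ⟨_, ⟨U, hU, rfl⟩, hzU, -⟩ :=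
    Z.isBasis_affineOpens.exists_subset_of_mem_open (Set.mem_univ (g z)) isOpen_univ
  haveI : Nonempty U := ⟨⟨_, hzU⟩⟩
  let V := g.fromNormalization ⁻¹ᵁ U
  have hzV : g.toNormalization z ∈ V := by
    show g.fromNormalization (g.toNormalization z) ∈ U
    rwa [← Scheme.Hom.comp_apply, Scheme.Hom.toNormalization_fromNormalization]
  letI algL : Algebra Γ(Z, U) Γ(Spec (CommRingCat.of K), g ⁻¹ᵁ U) := (g.app U).hom.toAlgebra
  let ε : K ≃+* Γ(Spec (CommRingCat.of K), g ⁻¹ᵁ U) := FinIntClosure.fieldEquiv φ g hg U
  letI fL : Field Γ(Spec (CommRingCat.of K), g ⁻¹ᵁ U) :=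
    (MulEquiv.isField (Field.toIsField K) ε.symm.toMulEquiv).toField
  haveI : IsFractionRing Γ(Z, U) Z.functionField := functionField_isFractionRing_of_isAffineOpen Z U hU
  letI algF : Algebra Z.functionField Γ(Spec (CommRingCat.of K), g ⁻¹ᵁ U) := (ε.toRingHom.comp φ).toAlgebra
  haveI : IsScalarTower Γ(Z, U) Z.functionField Γ(Spec (CommRingCat.of K), g ⁻¹ᵁ U) :=
    IsScalarTower.of_algebraMap_eq fun a => by
      change (g.app U) a = ε (φ (Z.germToFunctionField U a))
      rw [FinIntClosure.app_eq φ g hg U]
      rfl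
  haveI : FiniteDimensional Z.functionField Γ(Spec (CommRingCat.of K), g ⁻¹ᵁ U) :=
    RingHom.Finite.comp (RingHom.Finite.of_surjective ε.toRingHom ε.surjective) hφ
  haveI : Algebra.IsAlgebraic Γ(Z, U) Z.functionField :=
    IsLocalization.isAlgebraic Z.functionField (nonZeroDivisors Γ(Z, U))
  haveI : Algebra.IsAlgebraic Γ(Z, U) Γ(Spec (CommRingCat.of K), g ⁻¹ᵁ U) :=
    Algebra.IsAlgebraic.trans Γ(Z, U) Z.functionField _
  have hzgU : z ∈ g ⁻¹ᵁ U := hzU
  intro s
  obtain ⟨t₀, ht₀⟩ := surjective_germ_top z s
  let t : Γ(Spec (CommRingCat.of K), g ⁻¹ᵁ U) :=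
    (Spec (CommRingCat.of K)).presheaf.map (homOfLE (le_top (a := g ⁻¹ᵁ U))).op t₀
  have ht : (Spec (CommRingCat.of K)).presheaf.germ (g ⁻¹ᵁ U) z hzgU t = s := by
    rw [← ht₀]
    exact TopCat.Presheaf.germ_res_apply _ _ _ _ _
  obtain ⟨a, ha0, hat⟩ := (Algebra.IsAlgebraic.isAlgebraic (R := Γ(Z, U)) t).exists_integral_multiple
  let c := (g.normalizationObjIso hU).inv ⟨a • t, hat⟩
  have key : ∀ c : Γ(g.normalization, V),
      g.toNormalization.stalkMap z (g.normalization.presheaf.germ V _ hzV c) =
        (Spec (CommRingCat.of K)).presheaf.germ (g ⁻¹ᵁ U) z hzgU ((g.normalizationObjIso hU).hom c).1 := fun c => by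
    rw [Scheme.Hom.germ_stalkMap_apply, Scheme.Hom.toNormalization_app_preimage g ⟨U, hU⟩]
    exact TopCat.Presheaf.germ_res_apply _ _ _ _ _
  have h1 : g.toNormalization.stalkMap z (g.normalization.presheaf.germ V _ hzV c) =
      (Spec (CommRingCat.of K)).presheaf.germ (g ⁻¹ᵁ U) z hzgU (g.app U a) * s := by
    rw [key, ← ht, ← map_mul]
    refine congrArg _ ?_
    simp only [c, Iso.inv_hom_id_apply]
    exact Algebra.smul_def a t
  let d := (g.normalizationObjIso hU).inv ⟨algebraMap Γ(Z, U) _ a, isIntegral_algebraMap⟩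
  let e := g.normalization.presheaf.germ V _ hzV d
  have h2 : g.toNormalization.stalkMap z e =
      (Spec (CommRingCat.of K)).presheaf.germ (g ⁻¹ᵁ U) z hzgU (g.app U a) := by
    show g.toNormalization.stalkMap z (g.normalization.presheaf.germ V _ hzV d) = _
    rw [key]
    simp only [d, Iso.inv_hom_id_apply]
    rfl
  have hne : g.app U a ≠ 0 := fun h => ha0 (IsFractionRing.injective Γ(Z, U) Z.functionField
    ((algebraMap Z.functionField Γ(Spec (CommRingCat.of K), g ⁻¹ᵁ U)).injective (by
      rw [← IsScalarTower.algebraMap_apply, map_zero, map_zero]; exact h)))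
  have hu : IsUnit ((Spec (CommRingCat.of K)).presheaf.germ (g ⁻¹ᵁ U) z hzgU (g.app U a)) :=
    (IsUnit.mk0 _ hne).map ((Spec (CommRingCat.of K)).presheaf.germ (g ⁻¹ᵁ U) z hzgU).hom
  have he : IsUnit e := IsUnit.of_map (g.toNormalization.stalkMap z).hom e (h2 ▸ hu)
  refine ⟨(he.unit⁻¹ : _) * g.normalization.presheaf.germ V _ hzV c, ?_⟩
  rw [map_mul, h1, ← mul_assoc, ← h2, ← map_mul, IsUnit.val_inv_mul, map_one, one_mul]

include hg in
theorem isPreimmersion_toNormalization (hφ : φ.Finite) : IsPreimmersion g.toNormalization where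
  stalkMap_surjective := surjective_stalkMap_toNormalization φ g hg hφ
  isEmbedding := by
    haveI : Subsingleton (Spec (CommRingCat.of K)) := inferInstanceAs (Subsingleton (PrimeSpectrum K))
    exact Topology.IsEmbedding.of_subsingleton _

omit [IsIntegral Z] in
theorem range_toNormalization :
    Set.range g.toNormalization = {genericPoint g.normalization} := by
  haveI : Unique (Spec (CommRingCat.of K)) := inferInstanceAs (Unique (PrimeSpectrum K))
  rw [Set.range_unique]
  refine congrArg _ (((genericPoint_spec g.normalization).eq ?_).symm)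
  show closure _ = (⊤ : Set g.normalization)
  rw [← Set.range_unique]
  exact (g.toNormalization.denseRange).closure_range

include hg q in
/-- The normalisation is a smooth curve over an algebraically closed field. -/
theorem normal_smooth [IsAlgClosed k] (hφ : φ.Finite) (hdim : topologicalKrullDim Z ≤ 1)
    (hgen : ¬ IsClosed ({genericPoint Z} : Set Z)) :
    Pi1.IsNormalScheme g.normalization ∧ Smooth (g.fromNormalization ≫ q) ∧
      topologicalKrullDim g.normalization = 1 := by
  have hclosed : ∀ x : Z, IsClosed ({x} : Set Z) → ringKrullDim (Z.presheaf.stalk x) = 1 := fun x hx => by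
    refine le_antisymm ?_ ?_
    · rw [ringKrullDim_stalk_eq_coheight]
      exact (Order.coheight_le_krullDim x).trans ((DimLiftLib.topologicalKrullDim_eq ↥Z).symm.trans_le hdim)
    · rw [ringKrullDim_stalk_eq_coheight]
      have hne : x ≠ genericPoint Z := fun h => hgen (h ▸ hx)
      have : 1 ≤ Order.coheight x := Order.one_le_iff_pos.2 (Order.coheight_pos.2 fun hm => hne (by
        exact ((genericPoint_specializes x).antisymm (hm (genericPoint_specializes x))).eq.symm))
      exact_mod_cast this
  have hst := fun y => FinIntClosure.stalk_normalization φ g hg k q hφ hclosed y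
  haveI := FinIntClosure.isFinite_fromNormalization φ g hg k q hφ
  refine ⟨fun y => (hst y).1, ?_, le_antisymm ?_ ?_⟩
  · refine FinBirLib.smooth_of_regular_algClosed _ fun y hy => ?_
    haveI := (hst y).1.1; haveI := (hst y).1.2
    haveI : IsLocallyNoetherian g.normalization :=
      LocallyOfFiniteType.isLocallyNoetherian (g.fromNormalization ≫ q)
    haveI : Ring.KrullDimLE 1 (g.normalization.presheaf.stalk y) := Ring.krullDimLE_iff.2 ((hst y).2 hy).le
    exact FinBirLib.isRegularLocalRing_of_normal_dimLE_one _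
  · exact (DimLiftLib.le_of_isIntegralHom g.fromNormalization).trans hdim
  · haveI : JacobsonSpace g.normalization := LocallyOfFiniteType.jacobsonSpace (g.fromNormalization ≫ q)
    obtain ⟨y, -, hy⟩ := nonempty_inter_closedPoints (Z := (Set.univ : Set g.normalization)) Set.univ_nonempty
      isClosed_univ.isLocallyClosed
    rw [DimLiftLib.topologicalKrullDim_eq, ← (hst y).2 hy, ringKrullDim_stalk_eq_coheight]
    exact Order.coheight_le_krullDim y

end Groth.Agent.CurveFin
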