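import Groth.Agent.CurveFin.Norm
import Groth.Agent.CurveFin.Const
import Groth.Agent.FLCLib.Generic
import Groth.Agent.FLCLib.Filtration
import Groth.Agent.EtaleSplit.Nbhd
import Groth.Agent.DVRCrit.Scheme

/-!
# A constructible sheaf near a generic point of a curve
-/

set_option autoImplicit false
set_option backward.isDefEq.respectTransparency false
set_option backward.isDefEq.respectTransparency.types false
set_option linter.style.haveILetI false
set_option maxHeartbeats 1000000

universe u

open CategoryTheory CategoryTheory.Limits AlgebraicGeometry Opposite Topology IsLocalRing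

noncomputable section

namespace Groth.Agent.CurveFin

open EtPtsLib

variable {k : Type u} [Field k]

/-- The admissible sheaves: any sheaf on a proper curve, torsion invertible in `k` in general. -/
def Good {X : Scheme.{u}} (f : X ⟶ Spec (CommRingCat.of k)) (F : EtCoh.Ab X) : Prop :=
  IsProper f ∨ ∀ (Ω : Type u) [Field Ω] [IsSepClosed Ω] (ξ : Spec (CommRingCat.of Ω) ⟶ X)
    (s : (EtCoh.stalk ξ).obj F), ∃ n : ℕ, (n : k) ≠ 0 ∧ n • s = 0

theorem exists_fac_residue {Ω : Type u} [Field Ω] {U : Scheme.{u}} (h : Spec (CommRingCat.of Ω) ⟶ U) (u : U)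
    (hu : h default = u) : ∃ ξ' : Spec (CommRingCat.of Ω) ⟶ Spec (U.residueField u),
      ξ' ≫ U.fromSpecResidueField u = h := by
  have hu' : h (closedPoint Ω) = u :=
    (congrArg (fun z => h z) (Subsingleton.elim (α := PrimeSpectrum Ω) _ _)).trans hu
  subst hu'
  exact ⟨_, Scheme.descResidueField_stalkClosedPointTo_fromSpecResidueField Ω U h⟩

theorem injective_stalk_of_pull {T X : Scheme.{u}} (g : T ⟶ X) {F G : EtCoh.Ab X} (a : F ⟶ G) {Ω : Type u}
    [Field Ω] [IsSepClosed Ω] (ξ' : Spec (CommRingCat.of Ω) ⟶ T)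
    (h : Function.Injective ((EtCoh.stalk ξ').map ((EtCoh.pull g).map a))) :
    Function.Injective ((EtCoh.stalk (ξ' ≫ g)).map a) := by
  have e := (FLCLib.stalkPullIso g ξ').hom.naturality a
  intro s t hst
  obtain ⟨s', rfl⟩ := (ConcreteCategory.bijective_of_isIso ((FLCLib.stalkPullIso g ξ').hom.app F)).2 s
  obtain ⟨t', rfl⟩ := (ConcreteCategory.bijective_of_isIso ((FLCLib.stalkPullIso g ξ').hom.app F)).2 t
  refine congrArg _ (h ?_)
  refine (ConcreteCategory.bijective_of_isIso ((FLCLib.stalkPullIso g ξ').hom.app G)).1 ?_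
  exact (ConcreteCategory.congr_hom e s').trans (hst.trans (ConcreteCategory.congr_hom e t').symm)

theorem exists_iso_C_of_isConstOn {T : Scheme.{u}} (G : EtCoh.Ab T) (M : AddCommGrpCat.{u + 1})
    (θ : M ⟶ G.obj.obj (op (EtCoh.top T))) (h : FLCLib.IsConstOn G (EtCoh.top T) θ) :
    Nonempty (ConstGenLib.C (X := T) M ≅ G) := by
  let ψ : (Functor.const T.Etaleᵒᵖ).obj M ⟶ G.obj :=
    { app := fun V => θ ≫ G.obj.map ((EtCore.topIsTerminal T).from V.unop).op
      naturality := fun V W g => by
        change 𝟙 M ≫ _ = (θ ≫ _) ≫ G.obj.map g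
        rw [Category.id_comp, Category.assoc, ← Functor.map_comp]
        exact congrArg (fun z => θ ≫ G.obj.map z) (Quiver.Hom.unop_inj ((EtCore.topIsTerminal T).hom_ext _ _)) }
  let a : ConstGenLib.C (X := T) M ⟶ G :=
    ⟨CategoryTheory.sheafifyLift T.smallEtaleTopology ψ G.property⟩
  have hfac : ∀ m : M, a.hom.app (op (EtCoh.top T)) (cst M (EtCoh.top T) m) = θ m := fun m => by
    have e : CategoryTheory.toSheafify T.smallEtaleTopology ((Functor.const T.Etaleᵒᵖ).obj M) ≫ a.hom = ψ :=
      CategoryTheory.toSheafify_sheafifyLift _ ψ G.property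
    refine (ConcreteCategory.congr_hom (congrArg (fun z => z.app (op (EtCoh.top T))) e) m).trans ?_
    show G.obj.map ((EtCore.topIsTerminal T).from (EtCoh.top T)).op (θ m) = θ m
    rw [(EtCore.topIsTerminal T).hom_ext ((EtCore.topIsTerminal T).from _) (𝟙 _), op_id, G.obj.map_id]
    rfl
  haveI : IsIso a := FLCLib.isIso_of_stalk a fun Ω _ _ ξ => by
    obtain ⟨l, -⟩ := Scheme.pointSmallEtaleFiberObjToPreimage_surjective ξ rfl (EtCoh.top T) ⟨ξ default, rfl⟩
    refine (ConcreteCategory.isIso_iff_bijective _).2 ?_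
    have hb := germ_cst_bijective ξ M (U := EtCoh.top T) l
    have e : ((EtCoh.stalk ξ).map a ∘ fun c : M => germ ξ _ l (cst M (EtCoh.top T) c)) =
        fun m : M => germ ξ G l (θ m) := funext fun m => by
      refine ((Scheme.pointSmallEtale ξ).toPresheafFiber_naturality_apply a.hom (EtCoh.top T) l _).trans ?_
      exact congrArg _ (hfac m)
    have hc := e ▸ h Ω ξ l
    exact (Function.Bijective.of_comp_iff _ hb).1 hc
  exact ⟨asIso a⟩

variable [IsAlgClosed k]

theorem exists_point_map {X : Scheme.{u}} (f : X ⟶ Spec (CommRingCat.of k)) [IsSeparated f]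
    [LocallyOfFiniteType f] [QuasiCompact f] (hdim : topologicalKrullDim X ≤ 1) (F : EtCoh.Ab X)
    (hF : EtPBC.IsConstructible F) (y : X) (hmax : ∀ w : X, w ⤳ y → w = y) (hnc : ¬ IsClosed ({y} : Set X)) :
    ∃ (Y : Scheme.{u}) (π : Y ⟶ X) (_ : IsFinite π) (_ : IsIntegral Y) (_ : Smooth (π ≫ f))
      (M : AddCommGrpCat.{u + 1}) (_ : Finite M) (u : F ⟶ (EtCoh.push π).obj (ConstGenLib.C (X := Y) M)),
      topologicalKrullDim Y = 1 ∧ Pi1.IsNormalScheme Y ∧ (Good f F → GoodGrp f M) ∧
        ∀ (Ω : Type u) [Field Ω] [IsSepClosed Ω] (ξ : Spec (CommRingCat.of Ω) ⟶ X), ξ default = y →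
          Function.Injective ((EtCoh.stalk ξ).map u) := by
  obtain ⟨U, M, θ, ⟨u₀, hu₀⟩, hM, hθ⟩ := (FLCLib.genCard_of_isConstructible hF).genConst y
  haveI : AlgebraicGeometry.Etale U.hom := U.prop
  haveI : LocallyQuasiFinite U.hom := Unibranch.locallyQuasiFinite_of_etale U.hom
  let L : Type u := U.left.residueField u₀
  let gu : Spec (CommRingCat.of L) ⟶ U.left := U.left.fromSpecResidueField u₀
  let g₀ : Spec (CommRingCat.of L) ⟶ X := gu ≫ U.hom
  haveI : Subsingleton (Spec (CommRingCat.of L)) := inferInstanceAs (Subsingleton (PrimeSpectrum L))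
  have hg₀ : ∀ t, g₀ t = y := fun t => by
    rw [Scheme.Hom.comp_apply]
    exact (congrArg U.hom (Scheme.fromSpecResidueField_apply u₀ t)).trans hu₀
  -- the constant value
  have hconst := FLCLib.isConstOn_pull_of_above g₀ (x := y) (fun t => (hg₀ t).symm ▸ specializes_rfl) hθ
  let s : EtCoh.top (Spec (CommRingCat.of L)) ⟶ (EtCoh.bc g₀).obj U :=
    MorphismProperty.Over.homMk (pullback.lift gu (𝟙 _) (Category.id_comp _).symm) (pullback.lift_snd _ _ _)
  obtain ⟨α⟩ := exists_iso_C_of_isConstOn _ M _ (hconst.map s)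
  -- the reduced closure of the point
  let I := Scheme.IdealSheafData.vanishingIdeal (⟨closure {y}, isClosed_closure⟩ : TopologicalSpace.Closeds X)
  let Z := I.subscheme
  let i : Z ⟶ X := I.subschemeι
  haveI : IsReduced Z := DVRCrit.isReduced_vanishingIdeal _
  have hri : Set.range i = closure {y} := by
    rw [Scheme.IdealSheafData.range_subschemeι, Scheme.IdealSheafData.coe_support_vanishingIdeal]
    rfl
  haveI : IsClosedImmersion (pullback.snd i g₀) := MorphismProperty.pullback_snd _ _ inferInstance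
  haveI : Surjective (pullback.snd i g₀) := ⟨Set.range_eq_univ.1 (by
    rw [Scheme.Pullback.range_snd, Set.eq_univ_iff_forall]
    intro t
    show g₀ t ∈ Set.range i
    rw [hri, hg₀ t]
    exact subset_closure rfl)⟩
  haveI := isIso_of_isClosedImmersion_of_surjective (pullback.snd i g₀)
  let gZ : Spec (CommRingCat.of L) ⟶ Z := inv (pullback.snd i g₀) ≫ pullback.fst i g₀
  have hgZ : gZ ≫ i = g₀ := by rw [Category.assoc, pullback.condition, IsIso.inv_hom_id_assoc]
  let z := gZ (closedPoint L)
  have hz : i z = y := by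
    show i (gZ (closedPoint L)) = y
    rw [← Scheme.Hom.comp_apply, hgZ]; exact hg₀ _
  haveI : Nonempty Z := ⟨z⟩
  have hzgen : ∀ w : Z, z ⤳ w := fun w => i.isClosedEmbedding.isInducing.specializes_iff.1 <|
    hz.symm ▸ specializes_iff_mem_closure.2 (hri ▸ ⟨w, rfl⟩)
  haveI : IrreducibleSpace Z := by
    rw [irreducibleSpace_def]
    have : closure ({z} : Set Z) = Set.univ := Set.eq_univ_of_forall fun w => specializes_iff_mem_closure.1 (hzgen w)
    rw [Set.top_eq_univ, ← this]
    exact isIrreducible_singleton.closure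
  haveI : IsIntegral Z := isIntegral_of_irreducibleSpace_of_isReduced _
  have hzη : genericPoint Z = z :=
    ((genericPoint_specializes z).antisymm (hzgen (genericPoint Z))).eq
  have hZnc : ¬ IsClosed ({genericPoint Z} : Set Z) := fun h => hnc (by
    have := i.isClosedEmbedding.isClosedMap _ h
    rwa [Set.image_singleton, hzη, hz] at this)
  have hZdim : topologicalKrullDim Z ≤ 1 := i.isClosedEmbedding.isInducing.topologicalKrullDim_le.trans hdim
  let q : Z ⟶ Spec (CommRingCat.of k) := i ≫ f
  let φ' : Z.functionField ⟶ CommRingCat.of L :=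
     
      (Z.presheaf.stalkCongr (.of_eq hzη)).hom ≫ Scheme.stalkClosedPointTo gZ
  have hg : gZ = Spec.map (CommRingCat.ofHom φ'.hom) ≫ Z.fromSpecStalk (genericPoint Z) := by
    rw [CommRingCat.ofHom_hom, Spec.map_comp, Category.assoc, TopCat.Presheaf.stalkCongr_hom,
      Scheme.SpecMap_stalkSpecializes_fromSpecStalk]
    exact (Scheme.Spec_stalkClosedPointTo_fromSpecStalk gZ).symm
  have hφ : φ'.hom.Finite := by
    have hd : (Z.descResidueField (Scheme.stalkClosedPointTo gZ)).hom.Finite := by
      have h0 : (Scheme.SpecToEquivOfField L X g₀).2.hom.Finite := by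
        have h1 : (Scheme.SpecToEquivOfField L U.left gu).2.hom.Finite := by
          have e : Scheme.SpecToEquivOfField L U.left gu = ⟨u₀, 𝟙 _⟩ := by
            rw [Equiv.apply_eq_iff_eq_symm_apply]
            exact ((congrArg (· ≫ U.left.fromSpecResidueField u₀) (Spec.map_id _)).trans (Category.id_comp _)).symm
          rw [e]
          exact RingHom.Finite.id _
        show (X.descResidueField (Scheme.stalkClosedPointTo (gu ≫ U.hom))).hom.Finite
        rw [Scheme.descResidueField_stalkClosedPointTo_comp]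
        exact RingHom.Finite.comp h1 (Groth.Agent.EtaleSplit.finite_residueFieldMap U.hom _ (U.hom.quasiFiniteAt _))
      have h2 : (Scheme.SpecToEquivOfField L X (gZ ≫ i)).2.hom.Finite := by rw [hgZ]; exact h0
      change (X.descResidueField (Scheme.stalkClosedPointTo (gZ ≫ i))).hom.Finite at h2
      rw [Scheme.descResidueField_stalkClosedPointTo_comp] at h2
      exact RingHom.Finite.of_comp_finite h2
    refine RingHom.Finite.comp ?_ (RingHom.Finite.of_surjective _
      (ConcreteCategory.bijective_of_isIso (Z.presheaf.stalkCongr (.of_eq hzη)).hom).2)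
    rw [← Scheme.residue_descResidueField (Scheme.stalkClosedPointTo gZ)]
    exact RingHom.Finite.comp hd (RingHom.Finite.of_surjective _ (Z.residue_surjective _))
  obtain ⟨hN, hsm, hYdim⟩ := normal_smooth φ'.hom gZ hg k q hφ hZdim hZnc
  haveI := FinIntClosure.isFinite_fromNormalization φ'.hom gZ hg k q hφ
  haveI := isPreimmersion_toNormalization φ'.hom gZ hg hφ
  let π : gZ.normalization ⟶ X := gZ.fromNormalization ≫ i
  let η := gZ.toNormalization
  have hπ : η ≫ π = g₀ := by rw [Scheme.Hom.toNormalization_fromNormalization_assoc, hgZ]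
  have hconn : ConstGenLib.ConnAlong η :=
    ConstGenLib.connAlong_of_range_eq η (range_toNormalization gZ) hN
  let e : (EtCoh.push g₀).obj ((EtCoh.pull g₀).obj F) ≅
      (EtCoh.push π).obj (ConstGenLib.C (X := gZ.normalization) M) :=
    (EtCoh.push g₀).mapIso α.symm ≪≫ ((EtCoh.pushCongr hπ).app _).symm ≪≫
      ((EtCoh.pushComp π η).app _).symm ≪≫ (EtCoh.push π).mapIso (pushC η M hconn).symm
  refine ⟨gZ.normalization, π, inferInstance, inferInstance, by simpa [π, q] using hsm, M, hM,
    (EtCoh.pullPushAdj g₀).unit.app F ≫ e.hom, hYdim, hN, fun hgood => hgood.imp id fun h m => ?_, ?_⟩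
  · obtain ⟨l, -⟩ := Scheme.pointSmallEtaleFiberObjToPreimage_surjective (geomPt y) (geomPt_default y) U ⟨u₀, hu₀⟩
    obtain ⟨n, hn, hnm⟩ := h _ (geomPt y) (germ (geomPt y) F l (θ m))
    refine ⟨n, hn, (hθ _ (geomPt y) l ((geomPt_default y).symm ▸ specializes_rfl)).1 ?_⟩
    show germ (geomPt y) F l (θ (n • m)) = germ (geomPt y) F l (θ 0)
    rw [map_nsmul, map_zero]
    exact ((map_nsmul ((Scheme.pointSmallEtale (geomPt y)).toPresheafFiber U l F.obj).hom n (θ m)).trans hnm).trans
      (map_zero ((Scheme.pointSmallEtale (geomPt y)).toPresheafFiber U l F.obj).hom).symm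
  · intro Ω _ _ ξ hξ
    obtain ⟨l, hl⟩ := Scheme.pointSmallEtaleFiberObjToPreimage_surjective ξ hξ U ⟨u₀, hu₀⟩
    obtain ⟨ξ', hξ'⟩ := exists_fac_residue (liftHom ξ l) u₀ (congrArg Subtype.val hl)
    have hξξ : ξ' ≫ g₀ = ξ := by rw [← Category.assoc, hξ', liftHom_comp]
    subst hξξ
    intro a₀ b₀ h₀
    rw [Functor.map_comp] at h₀
    refine injective_stalk_of_pull g₀ ((EtCoh.pullPushAdj g₀).unit.app F) ξ' (fun a b hab => ?_)
      ((ConcreteCategory.bijective_of_isIso ((EtCoh.stalk (ξ' ≫ g₀)).map e.hom)).1 h₀)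
    have ht := congrArg (EtCoh.stalk ξ').map ((EtCoh.pullPushAdj g₀).left_triangle_components F)
    rw [CategoryTheory.Functor.map_comp, CategoryTheory.Functor.map_id] at ht
    exact (ConcreteCategory.congr_hom ht a).symm.trans
      ((congrArg ((EtCoh.stalk ξ').map ((EtCoh.pullPushAdj g₀).counit.app _)) hab).trans (ConcreteCategory.congr_hom ht b))

end Groth.Agent.CurveFin
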