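import Groth.Agent.EtClosedPts.Curve
import Groth.Agent.ConstGenLib.Unit
import Groth.Agent.EtVanish.Henselian
import Groth.Prelude.Def_EtCore

/-!
# Finiteness in long exact cohomology sequences
-/

set_option autoImplicit false
set_option backward.isDefEq.respectTransparency false
set_option linter.style.haveILetI false

universe u

open CategoryTheory CategoryTheory.Limits AlgebraicGeometry Opposite CategoryTheory.Abelian

noncomputable section

namespace Groth.Agent.CurveFin

theorem finite_of_exact {A B C : Type*} [AddCommGroup A] [AddCommGroup B] [AddCommGroup C] [Finite A] [Finite C]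
    (i : A →+ B) (p : B →+ C) (hx : ∀ b, p b = 0 → ∃ a, i a = b) : Finite B := by
  classical
  let s : p.range → B := fun c => c.2.choose
  have hs : ∀ c, p (s c) = c.1 := fun c => c.2.choose_spec
  refine Finite.of_surjective (fun x : A × p.range => i x.1 + s x.2) fun b => ?_
  obtain ⟨a, ha⟩ := hx (b - s ⟨p b, b, rfl⟩) (by rw [map_sub, hs, sub_self])
  exact ⟨⟨a, ⟨p b, b, rfl⟩⟩, by simp only [ha, sub_add_cancel]⟩

variable {X : Scheme.{u}}

/-- Composition with a map of sheaves on cohomology. -/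
def Hmap {F G : EtCoh.Ab X} (φ : F ⟶ G) (q : ℕ) : EtCoh.H X F q →+ EtCoh.H X G q :=
  AddMonoidHom.mk' (fun e => Ext.comp e (Ext.mk₀ φ) (add_zero q)) fun _ _ => Ext.add_comp _ _ _ _

theorem Hmap_injective_zero {F G : EtCoh.Ab X} (φ : F ⟶ G) [Mono φ] : Function.Injective (Hmap φ 0) := by
  refine (injective_iff_map_eq_zero _).2 fun a ha => ?_
  obtain ⟨α, rfl⟩ := (Ext.mk₀_bijective _ _).2 a
  have h : Ext.mk₀ (α ≫ φ) = 0 := by
    rw [← Ext.mk₀_comp_mk₀]
    exact ha
  rw [Ext.mk₀_eq_zero_iff] at h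
  rw [zero_of_comp_mono φ h]
  exact Ext.mk₀_zero _ _

theorem finite_H_mid {S : ShortComplex (EtCoh.Ab X)} (hS : S.ShortExact) (q : ℕ)
    [Finite (EtCoh.H X S.X₁ q)] [Finite (EtCoh.H X S.X₃ q)] : Finite (EtCoh.H X S.X₂ q) :=
  finite_of_exact (Hmap S.f q) (Hmap S.g q) fun b hb => Ext.covariant_sequence_exact₂ _ hS b hb

theorem finite_H_left {S : ShortComplex (EtCoh.Ab X)} (hS : S.ShortExact) (q : ℕ)
    [Finite (EtCoh.H X S.X₂ q)] (h3 : ∀ n, n + 1 = q → Finite (EtCoh.H X S.X₃ n)) :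
    Finite (EtCoh.H X S.X₁ q) := by
  cases q with
  | zero =>
    haveI := hS.mono_f
    exact Finite.of_injective _ (Hmap_injective_zero S.f)
  | succ n =>
    haveI := h3 n rfl
    let δ : EtCoh.H X S.X₃ n →+ EtCoh.H X S.X₁ (n + 1) :=
      AddMonoidHom.mk' (fun e => Ext.comp e hS.extClass rfl) fun _ _ => Ext.add_comp _ _ _ _
    exact finite_of_exact δ (Hmap S.f (n + 1)) fun b hb =>
      Ext.covariant_sequence_exact₁ _ hS b hb rfl

theorem finite_H_of_iso {F G : EtCoh.Ab X} (e : F ≅ G) (q : ℕ) (h : Finite (EtCoh.H X G q)) :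
    Finite (EtCoh.H X F q) :=
  @Finite.of_equiv _ _ h ((Sheaf.functorH _ q).mapIso e).addCommGroupIsoToAddEquiv.symm.toEquiv

/-- Finiteness for a morphism with finite target, finite kernel and finite cokernel cohomology. -/
theorem finite_H_of_map {F G : EtCoh.Ab X} (φ : F ⟶ G) (q : ℕ) (hG : Finite (EtCoh.H X G q))
    (hK : Finite (EtCoh.H X (kernel φ) q)) (hC : ∀ n, n + 1 = q → Finite (EtCoh.H X (cokernel φ) n)) :
    Finite (EtCoh.H X F q) := by
  obtain ⟨w, hS₁⟩ := EtClosedPts.shortExact_image φ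
  let S₂ := ShortComplex.mk (Abelian.image.ι φ) (cokernel.π φ) (kernel.condition _)
  have hS₂ : S₂.ShortExact := ⟨ShortComplex.exact_of_f_is_kernel _ (kernelIsKernel _)⟩
  haveI : Finite (EtCoh.H X S₂.X₂ q) := hG
  haveI : Finite (EtCoh.H X S₂.X₁ q) := finite_H_left hS₂ q hC
  haveI : Finite (EtCoh.H X (ShortComplex.mk _ _ w).X₁ q) := hK
  haveI : Finite (EtCoh.H X (ShortComplex.mk _ _ w).X₃ q) := inferInstanceAs (Finite (EtCoh.H X S₂.X₁ q))
  exact finite_H_mid hS₁ q

theorem finite_H_of_isZero {F : EtCoh.Ab X} (h : IsZero F) (q : ℕ) : Finite (EtCoh.H X F q) := by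
  haveI : Subsingleton (EtCoh.H X F q) := subsingleton_of_forall_eq 0 fun x => by
    rw [← Ext.comp_mk₀_id x, (IsZero.iff_id_eq_zero F).1 h, Ext.mk₀_zero, Ext.comp_zero]
  infer_instance

/-- The inverse image of a constant sheaf. -/
def pullC {T : Scheme.{u}} (g : T ⟶ X) (M : AddCommGrpCat.{u + 1}) :
    (EtCoh.pull g).obj (ConstGenLib.C (X := X) M) ≅ ConstGenLib.C (X := T) M :=
  (EtCore.pullConstIso g).app M

/-- The direct image of a constant sheaf along a map with connected fibres over étale neighbourhoods. -/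
def pushC {T : Scheme.{u}} (g : T ⟶ X) (M : AddCommGrpCat.{u + 1}) (h : ConstGenLib.ConnAlong g) :
    ConstGenLib.C (X := X) M ≅ (EtCoh.push g).obj (ConstGenLib.C (X := T) M) :=
  haveI := ConstGenLib.isIso_unit g M h
  asIso ((EtCoh.pullPushAdj g).unit.app (ConstGenLib.C (X := X) M)) ≪≫ (EtCoh.push g).mapIso (pullC g M)

/-- Constant cohomology is transported along integral maps with connected fibres. -/
theorem nonempty_H_C_equiv {T : Scheme.{u}} (g : T ⟶ X) [IsIntegralHom g] (M : AddCommGrpCat.{u + 1})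
    (h : ConstGenLib.ConnAlong g) (q : ℕ) :
    Nonempty (EtCoh.H X (ConstGenLib.C (X := X) M) q ≃+ EtCoh.H T (ConstGenLib.C (X := T) M) q) := by
  obtain ⟨e⟩ := EtVanish.nonempty_H_push_equiv g (ConstGenLib.C (X := T) M) q
  exact ⟨((Sheaf.functorH _ q).mapIso (pushC g M h)).addCommGroupIsoToAddEquiv.trans e⟩

end Groth.Agent.CurveFin
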